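import Groth.Agent.Lib.GrpOmega.Basic
import Groth.Agent.Lib.ModLimH13.Sections
import Groth.Agent.Lib.VeryAmple11.TsecRules
import Groth.Agent.Lib.RigidRel.AbSch
import Groth.Agent.Lib.AffGrp19.Main
import Groth.Agent.Lib.PushUnit3.Basic
import Groth.Agent.Lib.TensorMod.Invertible
import Groth.Agent.Lib.Omega12.LocFree
import Groth.Agent.S7795

/-!
Differentials on families of abelian varieties are determined along the unit section.
-/

set_option autoImplicit false
set_option linter.style.haveILetI false
set_option backward.isDefEq.respectTransparency false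

universe u

open CategoryTheory CategoryTheory.Limits AlgebraicGeometry TopologicalSpace Opposite MonObj MonoidalCategory CartesianMonoidalCategory

noncomputable section

namespace Groth.Agent.GrpOmega

variable {X S : Scheme.{u}}

theorem bijective_app_of_geometrically (f : X ⟶ S) [IsProper f] [Flat f] [LocallyOfFinitePresentation f]
    [GeometricallyConnected f] [GeometricallyReduced f] (V : S.Opens) : Function.Bijective (f.app V) := by
  refine AffGrp19.bijective_app_of_isBasis f (fun p : {U : S.Opens // IsAffineOpen U} => p.1) ?_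
    (fun p => RigidRel.h0_of_geometrically f p.1 p.2) V
  refine Opens.isBasis_iff_nbhd.2 fun {W x} hxW => ?_
  obtain ⟨U, hU, hxU, hUW⟩ := exists_isAffineOpen_mem_and_subset (X := S) (x := x) (U := W) hxW
  exact ⟨U, ⟨⟨U, hU⟩, rfl⟩, hxU, hUW⟩

theorem bijective_pullSec_of_eq_id {h : S ⟶ S} (hh : h = 𝟙 S) (E : S.Modules) (U : S.Opens) :
    Function.Bijective (M2.pullSec h E (U := U)) := by
  subst hh
  have hb : Function.Bijective (((Scheme.Modules.pullbackId S).hom.app E).app U) :=
    ConcreteCategory.bijective_of_isIso _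
  exact (Function.Bijective.of_comp_iff' hb _).1 (by
    have : (((Scheme.Modules.pullbackId S).hom.app E).app U) ∘ M2.pullSec (𝟙 S) E (U := U) = id :=
      funext fun s => VA11.pullbackId_hom_pullSec E s
    rw [this]
    exact Function.bijective_id)

/-- A section of the structure map detects global sections of modules pulled back from the base. -/
theorem bijective_pullSec_section (f : X ⟶ S) (hf : ∀ V : S.Opens, Function.Bijective (f.app V)) (e : S ⟶ X)
    (he : e ≫ f = 𝟙 S) {M : X.Modules} {E : S.Modules} (hE : FlatMod.IsFinLocFree E)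
    (φ : M ≅ (Scheme.Modules.pullback f).obj E) : Function.Bijective (M2.pullSec e M (U := (⊤ : X.Opens))) := by
  haveI := PushUnit3.isIso_unit f hf hE
  have h1 : Function.Bijective (M2.pullSec f E (U := (⊤ : S.Opens))) :=
    ConcreteCategory.bijective_of_isIso (((Scheme.Modules.pullbackPushforwardAdjunction f).unit.app E).app ⊤)
  have h2 : Function.Bijective (((Scheme.Modules.pullbackComp e f).hom.app E).app (e ⁻¹ᵁ f ⁻¹ᵁ ⊤)) :=
    ConcreteCategory.bijective_of_isIso _
  have h3 : Function.Bijective (M2.pullSec e ((Scheme.Modules.pullback f).obj E) (U := (⊤ : X.Opens))) := by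
    refine (Function.Bijective.of_comp_iff _ h1).1 ((Function.Bijective.of_comp_iff' h2 _).1 ?_)
    have : (((Scheme.Modules.pullbackComp e f).hom.app E).app (e ⁻¹ᵁ f ⁻¹ᵁ ⊤)) ∘
        (M2.pullSec e ((Scheme.Modules.pullback f).obj E) (U := f ⁻¹ᵁ ⊤)) ∘ M2.pullSec f E (U := (⊤ : S.Opens)) =
        M2.pullSec (e ≫ f) E (U := (⊤ : S.Opens)) := funext fun s => ModLimH13.pullbackComp_pullSec e f E s
    exact this ▸ bijective_pullSec_of_eq_id he E ⊤
  have h4 : Function.Bijective (φ.hom.app ⊤) := ConcreteCategory.bijective_of_isIso _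
  have h5 : Function.Bijective (((Scheme.Modules.pullback e).map φ.hom).app (e ⁻¹ᵁ ⊤)) :=
    ConcreteCategory.bijective_of_isIso _
  refine (Function.Bijective.of_comp_iff' h5 _).1 ?_
  have : (((Scheme.Modules.pullback e).map φ.hom).app (e ⁻¹ᵁ ⊤)) ∘ M2.pullSec e M (U := (⊤ : X.Opens)) =
      M2.pullSec e ((Scheme.Modules.pullback f).obj E) (U := (⊤ : X.Opens)) ∘ φ.hom.app ⊤ := funext fun s =>
    (congrArg (fun ψ => ψ.app ⊤ s) ((Scheme.Modules.pullbackPushforwardAdjunction e).unit.naturality φ.hom)).symm
  rw [this]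
  exact h3.comp h4

variable {S : Scheme.{u}} (G : Over S) [GrpObj G] [IsProper G.hom] [Flat G.hom] [LocallyOfFinitePresentation G.hom]
  [GeometricallyReduced G.hom]

theorem isFinLocFree_unit_omega : FlatMod.IsFinLocFree ((Scheme.Modules.pullback η[G].left).obj (Omega.sheaf G.hom)) := by
  haveI : Smooth G.hom := S7795.result G
  exact M2.isFinLocFree_pullback _
    (Omega12.isFinLocFree_receptacle_of_smooth _ (Omega12.isUniversal_dOmega (f := G.hom)))

theorem nonempty_omega_iso_unit : Nonempty (Omega.sheaf G.hom ≅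
    (Scheme.Modules.pullback G.hom).obj ((Scheme.Modules.pullback η[G].left).obj (Omega.sheaf G.hom))) := by
  obtain ⟨e₁⟩ := nonempty_omega_iso G
  obtain ⟨e₀⟩ := nonempty_conormal_unit_iso G
  exact ⟨e₁ ≪≫ (Scheme.Modules.pullback G.hom).mapIso e₀.symm⟩

end Groth.Agent.GrpOmega
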