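import Groth.Agent.Lib.GrMap12.Split
import Groth.Agent.Lib.GrMap12.ConormalDiff
import Groth.Agent.Lib.Omega12.BaseChange
import Groth.Agent.Lib.Omega12.Exists
import Mathlib.CategoryTheory.Monoidal.Cartesian.Over
import Mathlib.CategoryTheory.Monoidal.Cartesian.Grp

/-!
# Differentials of a group scheme
-/

universe u

open CategoryTheory CategoryTheory.Limits AlgebraicGeometry MonoidalCategory CartesianMonoidalCategory MonObj GrpObj Opposite

set_option backward.isDefEq.respectTransparency false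
set_option linter.style.haveILetI false

namespace Groth.Agent.GrpOmega

variable {S : Scheme.{u}} (G : Over S) [GrpObj G]

/-- The map `(x, y) ↦ x⁻¹ y`. -/
noncomputable def dv : G ⊗ G ⟶ G := (fst G G)⁻¹ * snd G G

/-- The shear `(x, y) ↦ (x, x⁻¹ y)`. -/
noncomputable def shear : G ⊗ G ≅ G ⊗ G where
  hom := lift (fst G G) (dv G)
  inv := lift (fst G G) (fst G G * snd G G)
  hom_inv_id := by
    ext
    · simp
    · simp [dv, MonObj.comp_mul]
  inv_hom_id := by
    ext
    · simp
    · simp [dv, MonObj.comp_mul, GrpObj.comp_inv]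

theorem lift_dv : lift (𝟙 G) (𝟙 G) ≫ dv G = toUnit G ≫ η := by
  rw [← CategoryTheory.Hom.one_def]
  simp [dv, MonObj.comp_mul, GrpObj.comp_inv]

theorem isPullback_dv : IsPullback (dv G).left (pullback.fst G.hom G.hom) G.hom G.hom := by
  refine IsPullback.of_iso (IsPullback.of_hasPullback G.hom G.hom).flip
    ((Over.forget S).mapIso (shear G).symm) (Iso.refl _) (Iso.refl _) (Iso.refl _) ?_ ?_ ?_ ?_
  · have h : (shear G).inv ≫ dv G = snd G G := by
      simp [shear, dv, MonObj.comp_mul, GrpObj.comp_inv]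
    simpa using (congrArg CommaMorphism.left h).symm
  · have h : (shear G).inv ≫ fst G G = fst G G := by simp [shear]
    simpa using (congrArg CommaMorphism.left h).symm
  · simp
  · simp

/-- A derivation over the identity vanishes. -/
theorem der_app_eq_zero {Z : Scheme.{u}} {h : Z ⟶ Z} (e : h = 𝟙 Z) {F : Z.Modules} (d : OmegaSh.Der h F)
    (U : Z.Opens) (s : Γ(Z, U)) : d.app U s = 0 := by
  subst e
  exact d.d_app (X := op U) s

/-- Differentials along the unit section are the conormal module. -/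
theorem nonempty_conormal_unit_iso [QuasiSeparated G.hom] :
    Nonempty ((Scheme.Modules.pullback η[G].left).obj (Omega.sheaf G.hom) ≅ Omega.conormal η[G].left) := by
  let i : S ⟶ G.left := η[G].left
  have hi : i ≫ G.hom = 𝟙 S := Over.w η[G]
  haveI : IsImmersion (i ≫ G.hom) := hi.symm ▸ inferInstance
  haveI : IsImmersion i := IsImmersion.of_comp i G.hom
  haveI : QuasiCompact (i ≫ G.hom) := hi.symm ▸ inferInstance
  haveI : QuasiCompact i := QuasiCompact.of_comp i G.hom
  have hX := Omega12.isUniversal_dOmega G.hom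
  obtain ⟨ΩZ, dZ, hZ⟩ := Omega12.exists_isUniversal (i ≫ G.hom)
  obtain ⟨φ, hφ, -⟩ := GrMap12.existsUnique_conormalDiff i (OmegaSh.dOmega G.hom)
  obtain ⟨c, hc, -⟩ := Omega12.existsUnique_diffCompat (f' := i ≫ G.hom) (b := 𝟙 S) (h := i) (f := G.hom)
    (Category.comp_id _) hX dZ
  obtain ⟨w, hex, ⟨r, hr⟩, -⟩ := GrMap12.split_seq (i := i) (g := G.hom) hi (f := G.hom)
    (by rw [hi, Category.comp_id]) _ _ hX ΩZ dZ hZ φ hφ c hc
  have hzero : IsZero ΩZ := by
    refine (IsZero.iff_id_eq_zero _).2 ((hZ ΩZ (dZ.postcomp (0 : ΩZ ⟶ ΩZ).val)).unique ?_ rfl)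
    refine Omega12.der_ext _ fun U s => ?_
    rw [Omega12.postcomp_app, Omega12.postcomp_app, der_app_eq_zero hi dZ U s, map_zero, map_zero]
  haveI : Epi φ := hex.epi_f (hzero.eq_of_tgt _ _)
  haveI : IsSplitMono φ := ⟨⟨⟨r, hr⟩⟩⟩
  haveI : IsIso φ := isIso_of_mono_of_epi φ
  exact ⟨(asIso φ).symm⟩

/-- The differentials of a group scheme are induced from the unit section. -/
theorem nonempty_omega_iso [QuasiSeparated G.hom] :
    Nonempty (Omega.sheaf G.hom ≅ (Scheme.Modules.pullback G.hom).obj (Omega.conormal η[G].left)) := by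
  obtain ⟨e₀⟩ := nonempty_conormal_unit_iso G
  let p := pullback.fst G.hom G.hom
  haveI : QuasiSeparated p := MorphismProperty.pullback_fst _ _ inferInstance
  have hX := Omega12.isUniversal_dOmega G.hom
  have hP := Omega12.isUniversal_dOmega p
  have h1 : IsPullback (pullback.snd G.hom G.hom) p G.hom G.hom := (IsPullback.of_hasPullback G.hom G.hom).flip
  have h2 := isPullback_dv G
  obtain ⟨c₁, hc₁, -⟩ := Omega12.existsUnique_diffCompat h1.w.symm hX (OmegaSh.dOmega p)
  haveI := Omega12.isIso_diffCompat_of_isPullback h1 hX hP c₁ hc₁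
  obtain ⟨c₂, hc₂, -⟩ := Omega12.existsUnique_diffCompat h2.w.symm hX (OmegaSh.dOmega p)
  haveI := Omega12.isIso_diffCompat_of_isPullback h2 hX hP c₂ hc₂
  let δ : G.left ⟶ pullback G.hom G.hom := (lift (𝟙 G) (𝟙 G)).left
  have hδ1 : δ ≫ pullback.snd G.hom G.hom = 𝟙 G.left :=
    congrArg CommaMorphism.left (lift_snd (𝟙 G) (𝟙 G))
  have hδ2 : δ ≫ (dv G).left = G.hom ≫ η[G].left := congrArg CommaMorphism.left (lift_dv G)
  let Ω := Omega.sheaf G.hom
  exact ⟨((Scheme.Modules.pullbackId G.left).app Ω).symm ≪≫ (Scheme.Modules.pullbackCongr hδ1.symm).app Ω ≪≫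
    ((Scheme.Modules.pullbackComp δ _).app Ω).symm ≪≫ (Scheme.Modules.pullback δ).mapIso (asIso c₁ ≪≫ (asIso c₂).symm) ≪≫
    (Scheme.Modules.pullbackComp δ _).app Ω ≪≫ (Scheme.Modules.pullbackCongr hδ2).app Ω ≪≫
    ((Scheme.Modules.pullbackComp _ _).app Ω).symm ≪≫ (Scheme.Modules.pullback G.hom).mapIso e₀⟩

end Groth.Agent.GrpOmega
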